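import Mathlib

/-!
# Algebras small relative to the field, and locally constant functions with values in a field
-/

set_option autoImplicit false
set_option linter.style.haveILetI false

universe u

open Cardinal

noncomputable section

namespace Groth.Agent.FieldFamily

/-- a field extension spanned by fewer elements than the base field is algebraic -/
theorem isAlgebraic_of_small {K F : Type u} [Field K] [Field F] [Algebra K F] {σ : Type u} (v : σ → F)
    (hv : Submodule.span K (Set.range v) = ⊤) (hc : #σ < #K) : Algebra.IsAlgebraic K F := by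
  refine ⟨fun x => ?_⟩
  by_contra hx
  have h1 := (show Transcendental K x from hx).linearIndependent_sub_inv.cardinal_le_rank
  have h2 : Module.rank K F ≤ #σ := by
    rw [← rank_top, ← hv]
    exact (rank_span_le _).trans Cardinal.mk_range_le
  exact (h1.trans h2).not_gt hc

/-- residue fields at maximal ideals of small algebras over an algebraically closed field are trivial -/
theorem bijective_residue_of_small {K R : Type u} [Field K] [IsAlgClosed K] [CommRing R] [Algebra K R] {σ : Type u}
    (v : σ → R) (hv : Submodule.span K (Set.range v) = ⊤) (hc : #σ < #K) (m : Ideal R) [m.IsMaximal] :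
    Function.Bijective (algebraMap K (R ⧸ m)) := by
  letI : Field (R ⧸ m) := Ideal.Quotient.field m
  haveI : Algebra.IsAlgebraic K (R ⧸ m) := by
    refine isAlgebraic_of_small (Ideal.Quotient.mkₐ K m ∘ v) ?_ hc
    rw [Set.range_comp, ← AlgHom.coe_toLinearMap, Submodule.span_image, hv, Submodule.map_top, LinearMap.range_eq_top]
    exact Ideal.Quotient.mk_surjective
  haveI : Algebra.IsIntegral K (R ⧸ m) := Algebra.IsAlgebraic.isIntegral
  exact IsAlgClosed.algebraMap_bijective_of_isIntegral

/-- small algebras over an algebraically closed field are Jacobson -/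
theorem isJacobsonRing_of_small {K R : Type u} [Field K] [IsAlgClosed K] [CommRing R] [Algebra K R] {σ : Type u}
    (v : σ → R) (hv : Submodule.span K (Set.range v) = ⊤) (hc : #(σ × ULift.{u} ℕ) < #K) : IsJacobsonRing R := by
  refine isJacobsonRing_iff_prime_eq.2 fun P hP => le_antisymm (fun f hf => ?_) Ideal.le_jacobson
  by_contra hfP
  let w : σ × ULift.{u} ℕ → Localization.Away f := fun i =>
    IsLocalization.mk' _ (v i.1) (⟨f ^ i.2.down, ⟨i.2.down, rfl⟩⟩ : Submonoid.powers f)
  have hw : Submodule.span K (Set.range w) = ⊤ := by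
    rw [eq_top_iff]
    intro z _
    obtain ⟨r, ⟨_, n, rfl⟩, rfl⟩ := IsLocalization.exists_mk'_eq (Submonoid.powers f) z
    let fn : Submonoid.powers f := ⟨f ^ n, n, rfl⟩
    let l : R →ₗ[K] Localization.Away f :=
      (LinearMap.mulRight K (IsLocalization.mk' (Localization.Away f) 1 fn)).comp
        (IsScalarTower.toAlgHom K R (Localization.Away f)).toLinearMap
    have hl : ∀ x, l x = IsLocalization.mk' _ x fn := fun x => (IsLocalization.mk'_eq_mul_mk'_one x fn).symm
    have hr : r ∈ Submodule.span K (Set.range v) := by rw [hv]; trivial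
    have h2 := Submodule.mem_map_of_mem (f := l) hr
    rw [hl, Submodule.map_span] at h2
    refine Submodule.span_mono ?_ h2
    rintro _ ⟨_, ⟨i, rfl⟩, rfl⟩
    exact ⟨(i, ⟨n⟩), (hl (v i)).symm⟩
  have hne : Ideal.map (algebraMap R (Localization.Away f)) P ≠ ⊤ := by
    refine (IsLocalization.map_algebraMap_ne_top_iff_disjoint (Submonoid.powers f) _ P).2 ?_
    exact Set.disjoint_left.2 fun x hx hx' => by
      obtain ⟨n, rfl⟩ := hx
      exact hfP (hP.mem_of_pow_mem n hx')
  obtain ⟨m, hm, hPm⟩ := Ideal.exists_le_maximal _ hne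
  let q : R →ₐ[K] Localization.Away f ⧸ m :=
    (Ideal.Quotient.mkₐ K m).comp (IsScalarTower.toAlgHom K R (Localization.Away f))
  have hbij := bijective_residue_of_small w hw hc m
  have hq : Function.Surjective q := fun z => by
    obtain ⟨c, rfl⟩ := hbij.2 z
    exact ⟨algebraMap K R c, q.commutes c⟩
  letI : Field (Localization.Away f ⧸ m) := Ideal.Quotient.field m
  haveI hker : (RingHom.ker q).IsMaximal := RingHom.ker_isMaximal_of_surjective q hq
  have hle : P.jacobson ≤ RingHom.ker q := sInf_le ⟨fun x hx => by
    rw [RingHom.mem_ker]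
    exact Ideal.Quotient.eq_zero_iff_mem.2 (hPm (Ideal.mem_map_of_mem _ hx)), hker⟩
  have hzero : q f = 0 := hle hf
  exact hm.ne_top (Ideal.eq_top_of_isUnit_mem _ (Ideal.Quotient.eq_zero_iff_mem.1 hzero)
    (IsLocalization.Away.algebraMap_isUnit f))

variable {S : Type u} [TopologicalSpace S] {K : Type u} [Field K]

theorem isUnit_of_forall_ne_zero (a : LocallyConstant S K) (ha : ∀ s, a s ≠ 0) : IsUnit a :=
  IsUnit.of_mul_eq_one (a.map (·⁻¹)) (LocallyConstant.ext fun s => mul_inv_cancel₀ (ha s))

/-- locally constant functions form a union of finite products of the field -/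
theorem exists_subalgebra_pi [CompactSpace S] (t : Finset (LocallyConstant S K)) :
    ∃ (B : Subalgebra K (LocallyConstant S K)) (n : ℕ), (↑t : Set (LocallyConstant S K)) ⊆ B ∧
      Nonempty (B ≃ₐ[K] (Fin n → K)) := by
  classical
  let F : LocallyConstant S (t → K) := LocallyConstant.unflip fun a : t => (a : LocallyConstant S K)
  let R : Set (t → K) := Set.range F
  haveI : Finite R := F.range_finite.to_subtype
  let F' : S → R := Set.rangeFactorization F
  have hF' : IsLocallyConstant F' := IsLocallyConstant.desc _ Subtype.val F.isLocallyConstant Subtype.val_injective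
  let θ : (R → K) →ₐ[K] LocallyConstant S K :=
    { toFun := fun h => ⟨h ∘ F', hF'.comp h⟩
      map_one' := rfl
      map_mul' := fun _ _ => rfl
      map_zero' := rfl
      map_add' := fun _ _ => rfl
      commutes' := fun _ => rfl }
  have hθ : Function.Injective θ := fun h h' e => funext fun r => by
    obtain ⟨s, rfl⟩ := Set.rangeFactorization_surjective (f := F) r
    exact congr($e s)
  obtain ⟨n, ⟨e⟩⟩ := Finite.exists_equiv_fin R
  refine ⟨θ.range, n, fun a ha => ⟨fun r => r.1 ⟨a, ha⟩, LocallyConstant.ext fun s => rfl⟩,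
    ⟨(AlgEquiv.ofInjective θ hθ).symm.trans
      { Equiv.arrowCongr e (Equiv.refl K) with
        map_mul' := fun _ _ => rfl, map_add' := fun _ _ => rfl, commutes' := fun _ => rfl }⟩⟩

/-- evaluation -/
abbrev ev (s : S) : LocallyConstant S K →+* K := LocallyConstant.evalRingHom s

/-- an element of the union of basic opens not vanishing at any member of the family -/
theorem exists_combination [CompactSpace S] {R : Type u} [CommRing R] [Algebra K R]
    (f : R →ₐ[K] LocallyConstant S K) (t : Finset R) :
    ∃ g ∈ Ideal.span (↑t : Set R), ∀ s, (∃ x ∈ t, f x s ≠ 0) → f g s ≠ 0 := by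
  classical
  induction t using Finset.induction_on with
  | empty => exact ⟨0, zero_mem _, fun s ⟨x, hx, _⟩ => absurd hx (Finset.notMem_empty x)⟩
  | @insert a t ha ih =>
    obtain ⟨g, hg, hgs⟩ := ih
    let T : Finset K := insert 0 (f a).range_finite.toFinset
    let p : Polynomial K := Lagrange.interpolate T id fun v => if v = 0 then 0 else 1
    have hp : ∀ v ∈ T, p.eval v = if v = 0 then 0 else 1 := fun v hv =>
      Lagrange.eval_interpolate_at_node _ (fun x _ y _ h => h) hv
    have hp0 : p.eval 0 = 0 := by rw [hp 0 (Finset.mem_insert_self _ _), if_pos rfl]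
    obtain ⟨p', hp'⟩ := Polynomial.X_dvd_iff.2 ((Polynomial.coeff_zero_eq_eval_zero p).trans hp0)
    let e := Polynomial.aeval a p
    have he : e ∈ Ideal.span (↑(insert a t) : Set R) := by
      show Polynomial.aeval a p ∈ _
      rw [hp', map_mul, Polynomial.aeval_X]
      exact Ideal.mul_mem_right _ _ (Ideal.subset_span (Finset.mem_insert_self a t))
    have hev : ∀ s, f e s = if f a s = 0 then 0 else 1 := fun s => by
      rw [← hp (f a s) (Finset.mem_insert_of_mem ((f a).range_finite.mem_toFinset.2 ⟨s, rfl⟩))]
      show f (Polynomial.aeval a p) s = _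
      rw [← Polynomial.aeval_algHom_apply, ← Polynomial.coe_aeval_eq_eval]
      exact (Polynomial.aeval_algHom_apply (LocallyConstant.evalₐ K s) (f a) p).symm
    refine ⟨e + (1 - e) * g, add_mem he (Ideal.mul_mem_left _ _
      (Ideal.span_mono (Finset.coe_subset.2 (Finset.subset_insert a t)) hg)), fun s ⟨x, hx, hxs⟩ => ?_⟩
    have heq : f (e + (1 - e) * g) s = f e s + (1 - f e s) * f g s := by
      rw [map_add, map_mul, map_sub, map_one]
      rfl
    rw [heq, hev]
    by_cases h : f a s = 0
    · rw [if_pos h, zero_add, sub_zero, one_mul]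
      rcases Finset.mem_insert.1 hx with rfl | hx
      · exact absurd h hxs
      · exact hgs s ⟨x, hx, hxs⟩
    · simp [if_neg h]

end Groth.Agent.FieldFamily
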