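import Groth.Agent.FieldFamily.Basic
import Mathlib

/-!
# Base change to a large algebraically closed field
-/

set_option autoImplicit false
set_option linter.style.haveILetI false
set_option backward.isDefEq.respectTransparency false

universe u

open CategoryTheory CategoryTheory.Limits AlgebraicGeometry TensorProduct Cardinal

noncomputable section

namespace Groth.Agent.FieldFamily

/-- the points of a small affine scheme over an algebraically closed field -/
theorem exists_section_of_small {F K R : Type u} [Field F] [Field K] [IsAlgClosed K] [Algebra F K] [CommRing R]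
    [Algebra F R] (hc : #R < #K) (m : Spec (CommRingCat.of (K ⊗[F] R))) (hm : IsClosed ({m} : Set (Spec _))) :
    ∃ x : Spec (CommRingCat.of K) ⟶ Spec (CommRingCat.of (K ⊗[F] R)),
      x ≫ Spec.map (CommRingCat.ofHom Algebra.TensorProduct.includeLeftRingHom) = 𝟙 _ ∧
      x (IsLocalRing.closedPoint K) = m := by
  let P : PrimeSpectrum (K ⊗[F] R) := m
  haveI : P.asIdeal.IsMaximal := (PrimeSpectrum.isClosed_singleton_iff_isMaximal P).1 hm
  have hv : Submodule.span K (Set.range fun r : R => (1 : K) ⊗ₜ[F] r) = ⊤ := by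
    rw [eq_top_iff]
    rintro z -
    induction z using TensorProduct.induction_on with
    | zero => exact zero_mem _
    | tmul a r =>
      rw [show a ⊗ₜ[F] r = a • ((1 : K) ⊗ₜ[F] r) by rw [TensorProduct.smul_tmul', smul_eq_mul, mul_one]]
      exact Submodule.smul_mem _ _ (Submodule.subset_span ⟨r, rfl⟩)
    | add x y hx hy => exact add_mem hx hy
  have hb := bijective_residue_of_small (K := K) (fun r : R => (1 : K) ⊗ₜ[F] r) hv hc P.asIdeal
  let χ : K ⊗[F] R →ₐ[K] K :=
    (AlgEquiv.ofBijective (Algebra.ofId K ((K ⊗[F] R) ⧸ P.asIdeal)) hb).symm.toAlgHom.comp (Ideal.Quotient.mkₐ K P.asIdeal)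
  refine ⟨Spec.map (CommRingCat.ofHom χ.toRingHom), ?_, ?_⟩
  · rw [← Spec.map_comp, ← CommRingCat.ofHom_comp,
      show χ.toRingHom.comp Algebra.TensorProduct.includeLeftRingHom = RingHom.id K from RingHom.ext fun a => χ.commutes a]
    exact Spec.map_id _
  · refine PrimeSpectrum.ext ?_
    show Ideal.comap χ.toRingHom (IsLocalRing.maximalIdeal K) = P.asIdeal
    rw [IsLocalRing.maximalIdeal_eq_bot, ← RingHom.ker_eq_comap_bot]
    ext a
    show χ a = 0 ↔ _
    simp only [χ, AlgHom.comp_apply, Ideal.Quotient.mkₐ_eq_mk]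
    exact (map_eq_zero_iff _ (AlgEquiv.injective _)).trans Ideal.Quotient.eq_zero_iff_mem

theorem isJacobsonRing_tensor_of_small {F K R : Type u} [Field F] [Field K] [IsAlgClosed K] [Algebra F K] [CommRing R]
    [Algebra F R] (hc : #(R × ULift.{u} ℕ) < #K) : IsJacobsonRing (K ⊗[F] R) := by
  refine isJacobsonRing_of_small (K := K) (fun r : R => (1 : K) ⊗ₜ[F] r) ?_ hc
  rw [eq_top_iff]
  rintro z -
  induction z using TensorProduct.induction_on with
  | zero => exact zero_mem _
  | tmul a r =>
    rw [show a ⊗ₜ[F] r = a • ((1 : K) ⊗ₜ[F] r) by rw [TensorProduct.smul_tmul', smul_eq_mul, mul_one]]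
    exact Submodule.smul_mem _ _ (Submodule.subset_span ⟨r, rfl⟩)
  | add x y hx hy => exact add_mem hx hy

/-- a large algebraically closed field -/
theorem exists_big_field (k : Type u) [Field k] (L : Type u) [Field L] [Algebra k L] (N : Type u) :
    ∃ (K : Type u) (_ : Field K) (_ : Algebra k K) (_ : L →ₐ[k] K), IsAlgClosed K ∧ #(Set N) ≤ #K := by
  let F := FractionRing (MvPolynomial (Set N) L)
  refine ⟨AlgebraicClosure F, inferInstance, inferInstance, IsScalarTower.toAlgHom k L (AlgebraicClosure F),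
    inferInstance, ?_⟩
  refine Cardinal.mk_le_of_injective
    (f := fun i => algebraMap F (AlgebraicClosure F) (algebraMap (MvPolynomial (Set N) L) F (MvPolynomial.X i))) ?_
  exact ((algebraMap F (AlgebraicClosure F)).injective.comp
    (IsFractionRing.injective (MvPolynomial (Set N) L) F)).comp (MvPolynomial.X_injective)

/-- over a large field the base change is Jacobson with rational closed points -/
theorem jacobson_rational_pullback {kb K : Type u} [Field kb] [Field K] [IsAlgClosed K] (ψ : kb →+* K)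
    {T : Scheme.{u}} (q : T ⟶ Spec (CommRingCat.of kb))
    (hK : ∀ i, #(Γ(T.affineCover.X i, ⊤) × ULift.{u} ℕ) < #K) :
    JacobsonSpace ↥(pullback (Spec.map (CommRingCat.ofHom ψ)) q) ∧
    ∀ g : ↥(pullback (Spec.map (CommRingCat.ofHom ψ)) q), IsClosed ({g} : Set ↥(pullback (Spec.map (CommRingCat.ofHom ψ)) q)) →
      ∃ x : Spec (CommRingCat.of K) ⟶ pullback (Spec.map (CommRingCat.ofHom ψ)) q,
        x ≫ pullback.fst _ _ = 𝟙 _ ∧ x (IsLocalRing.closedPoint K) = g := by
  letI : Algebra kb K := ψ.toAlgebra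
  let 𝒰 := Scheme.Pullback.openCoverOfRight T.affineCover (Spec.map (CommRingCat.ofHom ψ)) q
  have hpiece : ∀ i, ∃ (R : Type u) (_ : CommRing R) (_ : Algebra kb R)
      (e : Spec (CommRingCat.of (K ⊗[kb] R)) ⟶ pullback (Spec.map (CommRingCat.ofHom ψ)) q),
      IsOpenImmersion e ∧ Set.range e = Set.range (𝒰.f i) ∧
      e ≫ pullback.fst _ _ = Spec.map (CommRingCat.ofHom Algebra.TensorProduct.includeLeftRingHom) ∧
      #(R × ULift.{u} ℕ) < #K := by
    intro i
    let R : Type u := Γ(T.affineCover.X i, ⊤)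
    obtain ⟨φ, hφ⟩ := Spec.map_surjective ((T.affineCover.X i).isoSpec.inv ≫ T.affineCover.f i ≫ q)
    letI : Algebra kb R := φ.hom.toAlgebra
    let m : pullback (Spec.map (CommRingCat.ofHom ψ)) (Spec.map φ) ⟶ 𝒰.X i :=
      pullback.map _ _ _ _ (𝟙 _) (T.affineCover.X i).isoSpec.inv (𝟙 _) (by simp)
        (by rw [Category.comp_id, hφ])
    haveI : IsIso m := pullback.map_isIso _ _ _ _ _ _ _ _ _
    let e : Spec (CommRingCat.of (K ⊗[kb] R)) ⟶ pullback (Spec.map (CommRingCat.ofHom ψ)) q :=
      (pullbackSpecIso kb K R).inv ≫ m ≫ 𝒰.f i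
    refine ⟨R, inferInstance, inferInstance, e, inferInstance, ?_, ?_, hK i⟩
    · show Set.range ((pullbackSpecIso kb K R).inv ≫ m ≫ 𝒰.f i) = _
      rw [← Category.assoc, Scheme.Hom.comp_base, TopCat.coe_comp, Set.range_comp]
      rw [show Set.range ((pullbackSpecIso kb K R).inv ≫ m : _ ⟶ 𝒰.X i) = Set.univ from
        Set.range_eq_univ.2 (Scheme.Hom.homeomorph ((pullbackSpecIso kb K R).inv ≫ m)).surjective, Set.image_univ]
    · show ((pullbackSpecIso kb K R).inv ≫ m ≫ 𝒰.f i) ≫ pullback.fst _ _ = _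
      rw [Category.assoc, Category.assoc]
      have : m ≫ 𝒰.f i ≫ pullback.fst _ _ = pullback.fst _ _ := by
        simp [m, 𝒰]
      rw [this]
      exact pullbackSpecIso_inv_fst kb K R
  choose R _ _ e he her hef hsmall using hpiece
  have hopen : TopologicalSpace.IsOpenCover fun i => (e i).opensRange :=
    TopologicalSpace.IsOpenCover.mk (TopologicalSpace.Opens.ext (Set.eq_univ_of_forall fun g => by
      obtain ⟨i, y, hy⟩ := 𝒰.exists_eq g
      rw [TopologicalSpace.Opens.coe_iSup]
      exact Set.mem_iUnion.2 ⟨i, by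
        show g ∈ Set.range (e i)
        rw [her i]
        exact ⟨y, hy⟩⟩))
  refine ⟨?_, fun g hg => ?_⟩
  · rw [hopen.jacobsonSpace_iff]
    intro i
    haveI := isJacobsonRing_tensor_of_small (F := kb) (K := K) (R := R i) (hsmall i)
    haveI := he i
    let ho := ((e i).isoOpensRange.inv).isOpenEmbedding
    exact JacobsonSpace.of_isOpenEmbedding ho
  · obtain ⟨i, y, hy⟩ := 𝒰.exists_eq g
    obtain ⟨m, hm⟩ : g ∈ Set.range (e i) := her i ▸ ⟨y, hy⟩
    haveI := he i
    have hc : IsClosed ({m} : Set (Spec _)) := by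
      have : ({m} : Set (Spec (CommRingCat.of (K ⊗[kb] R i)))) = e i ⁻¹' {g} :=
        Set.ext fun z => ⟨fun h => (congrArg _ (Set.mem_singleton_iff.1 h)).trans hm,
          fun h => (e i).isOpenEmbedding.injective ((Set.mem_singleton_iff.1 h).trans hm.symm)⟩
      rw [this]
      exact hg.preimage (e i).continuous
    have hlt : #(R i) < #K := lt_of_le_of_lt (Cardinal.mk_le_of_injective
      (f := fun r : R i => (r, ULift.up 0)) fun a b h => congrArg Prod.fst h) (hsmall i)
    obtain ⟨x, hx, hxm⟩ := exists_section_of_small hlt m hc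
    exact ⟨x ≫ e i, by rw [Category.assoc, hef i, hx], by rw [Scheme.Hom.comp_apply, hxm, hm]⟩

/-- the cardinal bound -/
theorem small_of_set_le {K : Type u} {I : Type u} (R : I → Type u) (h : #(Set ((Σ i, R i) ⊕ ULift.{u} ℕ)) ≤ #K) (i : I) :
    #(R i × ULift.{u} ℕ) < #K := by
  set N := (Σ i, R i) ⊕ ULift.{u} ℕ
  haveI : Infinite N := inferInstance
  refine lt_of_le_of_lt ?_ ((Cardinal.cantor #N).trans_le (Cardinal.mk_set.symm.trans_le h))
  rw [Cardinal.mk_prod, Cardinal.lift_id, Cardinal.lift_id]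
  refine (mul_le_mul' (Cardinal.mk_le_of_injective (f := fun r : R i => (Sum.inl ⟨i, r⟩ : N)) fun a b h => by simpa using h)
    (Cardinal.mk_le_of_injective (f := fun n : ULift.{u} ℕ => (Sum.inr n : N)) Sum.inr_injective)).trans ?_
  exact (Cardinal.mul_eq_self (Cardinal.aleph0_le_mk N)).le

end Groth.Agent.FieldFamily
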