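import Groth.Agent.FieldFamily.Basic
import Mathlib

/-!
# Locally constant families of field embeddings
-/

set_option autoImplicit false
set_option linter.style.haveILetI false
set_option backward.isDefEq.respectTransparency false

universe u

open TensorProduct

noncomputable section

namespace Groth.Agent.FieldFamily

variable {S : Type u} [TopologicalSpace S] {K : Type u} [Field K] [IsAlgClosed K]

/-- monic polynomials have roots in locally constant functions -/
theorem exists_root {M : Type u} [CommRing M] (φ : M →+* LocallyConstant S K) (p : Polynomial M)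
    (hp : p.Monic) (hdeg : p.natDegree ≠ 0) : ∃ r, Polynomial.eval₂ φ r p = 0 := by
  classical
  let c : LocallyConstant S (Fin (p.natDegree + 1) → K) := LocallyConstant.unflip fun i => φ (p.coeff i)
  let G : (Fin (p.natDegree + 1) → K) → K := fun t =>
    if h : ∃ z, ∑ i, t i * z ^ (i : ℕ) = 0 then h.choose else 0
  refine ⟨c.map G, LocallyConstant.ext fun s => ?_⟩
  have key : ∀ z : K, ∑ i, c s i * z ^ (i : ℕ) = Polynomial.eval₂ ((ev s).comp φ) z p := fun z => by
    rw [Polynomial.eval₂_eq_sum_range, Finset.sum_range]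
    rfl
  have hex : ∃ z, ∑ i, c s i * z ^ (i : ℕ) = 0 := by
    obtain ⟨z, hz⟩ := IsAlgClosed.exists_root (p.map ((ev s).comp φ)) (by
      rw [hp.degree_map]
      intro h
      exact hdeg (Polynomial.natDegree_eq_of_degree_eq_some h))
    exact ⟨z, by rw [key, ← Polynomial.eval_map]; exact hz⟩
  have hG : (c.map G) s = hex.choose := dif_pos hex
  show ev s (Polynomial.eval₂ φ (c.map G) p) = 0
  rw [Polynomial.hom_eval₂, show ev s (c.map G) = hex.choose from hG, ← key]
  exact hex.choose_spec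

/-- one simple step -/
theorem exists_step {M L : Type u} [Field M] [Field L] [Algebra M L] [Algebra.IsAlgebraic M L]
    [Algebra M (LocallyConstant S K)] (T : Subalgebra M L) (ψ : T →ₐ[M] LocallyConstant S K) (x : L) :
    ∃ (T' : Subalgebra M L) (ψ' : T' →ₐ[M] LocallyConstant S K) (h : T ≤ T'),
      ψ'.comp (Subalgebra.inclusion h) = ψ ∧ x ∈ T' := by
  let T₀ : IntermediateField M L :=
    T.toIntermediateField' (Subalgebra.isField_of_algebraic T)
  let ψ₀ : T₀ →+* LocallyConstant S K := ψ.toRingHom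
  have hint : IsIntegral T₀ x := (Algebra.IsAlgebraic.isAlgebraic (R := M) x).isIntegral.tower_top
  obtain ⟨r, hr⟩ := exists_root ψ₀ (minpoly T₀ x) (minpoly.monic hint) (minpoly.natDegree_pos hint).ne'
  let T' := (Algebra.adjoin T₀ ({x} : Set L)).restrictScalars M
  have hTT' : T ≤ T' := fun z hz => (Algebra.adjoin T₀ ({x} : Set L)).algebraMap_mem ⟨z, hz⟩
  let e : Algebra.adjoin T₀ ({x} : Set L) →+* AdjoinRoot (minpoly T₀ x) :=
    (AlgEquiv.adjoinSingletonEquivAdjoinRootMinpoly T₀ x).toRingEquiv.toRingHom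
  let g' : Algebra.adjoin T₀ ({x} : Set L) →+* LocallyConstant S K := (AdjoinRoot.lift ψ₀ r hr).comp e
  have hg' : ∀ z : T₀, g' (algebraMap T₀ (Algebra.adjoin T₀ ({x} : Set L)) z) = ψ₀ z := fun z => by
    simp only [g', e, RingHom.comp_apply]
    rw [show (AlgEquiv.adjoinSingletonEquivAdjoinRootMinpoly T₀ x).toRingEquiv.toRingHom
      (algebraMap T₀ (Algebra.adjoin T₀ ({x} : Set L)) z) = algebraMap T₀ (AdjoinRoot (minpoly T₀ x)) z from
      (AlgEquiv.adjoinSingletonEquivAdjoinRootMinpoly T₀ x).commutes z, AdjoinRoot.algebraMap_eq, AdjoinRoot.lift_of]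
  let ψ' : T' →ₐ[M] LocallyConstant S K :=
    { toFun := g'
      map_one' := map_one g'
      map_mul' := map_mul g'
      map_zero' := map_zero g'
      map_add' := map_add g'
      commutes' := fun z => by
        have := hg' (algebraMap M T₀ z)
        exact this.trans (ψ.commutes z) }
  have hx : x ∈ T' := (Subalgebra.mem_restrictScalars M).2
    (Algebra.subset_adjoin (R := T₀) (s := ({x} : Set L)) (Set.mem_singleton x))
  exact ⟨T', ψ', hTT', AlgHom.ext fun z => hg' z, hx⟩

/-- homomorphisms into locally constant functions extend along algebraic field extensions -/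
theorem exists_extension {M L : Type u} [Field M] [Field L] [Algebra M L] [Algebra.IsAlgebraic M L]
    (φ : M →+* LocallyConstant S K) : ∃ Φ : L →+* LocallyConstant S K, Φ.comp (algebraMap M L) = φ := by
  classical
  letI : Algebra M (LocallyConstant S K) := φ.toAlgebra
  let Pairs := {G : Σ T : Subalgebra M L, (T →ₐ[M] LocallyConstant S K) // True}
  let le : Pairs → Pairs → Prop := fun a b =>
    ∃ h : a.1.1 ≤ b.1.1, b.1.2.comp (Subalgebra.inclusion h) = a.1.2
  have hrefl : ∀ a, le a a := fun a => ⟨le_rfl, by ext; rfl⟩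
  have htrans : ∀ {a b c}, le a b → le b c → le a c := fun {a b c} ⟨h, e⟩ ⟨h', e'⟩ => ⟨h.trans h', by
    rw [← e, ← e']
    rfl⟩
  obtain ⟨m, hm⟩ := exists_maximal_of_chains_bounded (r := le) (fun C hC => by
    rcases C.eq_empty_or_nonempty with rfl | hne
    · exact ⟨⟨⟨⊥, (Algebra.ofId M _).comp (Algebra.botEquiv M L).toAlgHom⟩, trivial⟩, fun _ h => h.elim⟩
    haveI := hne.to_subtype
    haveI : IsRefl Pairs le := ⟨hrefl⟩
    have hdir : Directed (· ≤ ·) (fun i : C => i.1.1.1) := fun i j =>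
      (hC.total i.2 j.2).elim (fun h => ⟨j, h.1, le_rfl⟩) (fun h => ⟨i, le_rfl, h.1⟩)
    have hf : ∀ (i j : C) (h : i.1.1.1 ≤ j.1.1.1), i.1.1.2 = j.1.1.2.comp (Subalgebra.inclusion h) := fun i j h => by
      rcases hC.total i.2 j.2 with ⟨h', e⟩ | ⟨h', e⟩
      · exact e.symm
      · ext x
        exact (DFunLike.congr_fun e ⟨x.1, h x.2⟩).symm ▸ rfl
    let F := Subalgebra.iSupLift (fun i : C => i.1.1.1) hdir (fun i => i.1.1.2) hf (⨆ i : C, i.1.1.1) le_rfl
    refine ⟨⟨⟨_, F⟩, trivial⟩, fun a ha => ⟨le_iSup (fun i : C => i.1.1.1) ⟨a, ha⟩, ?_⟩⟩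
    refine AlgHom.ext fun x => ?_
    exact Subalgebra.iSupLift_inclusion (K := fun i : C => i.1.1.1) (dir := hdir) (f := fun i => i.1.1.2) (hf := hf)
      (hT := le_rfl) (i := ⟨a, ha⟩) x (le_iSup (fun i : C => i.1.1.1) ⟨a, ha⟩)) htrans
  let T := m.1.1
  let ψ := m.1.2
  have hT : T = ⊤ := by
    by_contra hT
    obtain ⟨x, -, hx⟩ := SetLike.exists_of_lt (lt_top_iff_ne_top.2 hT)
    obtain ⟨T', ψ', hTT', hψ', hx'⟩ := exists_step T ψ x
    obtain ⟨h, -⟩ := hm ⟨⟨T', ψ'⟩, trivial⟩ ⟨hTT', hψ'⟩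
    exact hx (h hx')
  refine ⟨(ψ.comp ((Subalgebra.equivOfEq _ _ hT).symm.toAlgHom.comp Subalgebra.topEquiv.symm.toAlgHom)).toRingHom,
    RingHom.ext fun z => ?_⟩
  exact (ψ.comp ((Subalgebra.equivOfEq _ _ hT).symm.toAlgHom.comp Subalgebra.topEquiv.symm.toAlgHom)).commutes z

end Groth.Agent.FieldFamily
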