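import Groth.Agent.FieldFamily.Extend
import Mathlib

/-!
# A locally constant family of embeddings indexed by the fibre over a field point
-/

set_option autoImplicit false
set_option linter.style.haveILetI false
set_option backward.isDefEq.respectTransparency false

universe u

open TensorProduct

noncomputable section

namespace Groth.Agent.FieldFamily

variable {k : Type u} [Field k]

/-- algebraic elements lie in the image of an algebraically closed field -/
theorem mem_range_of_isIntegral {L K : Type u} [Field L] [IsAlgClosed L] [Field K] [Algebra k L] [Algebra k K]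
    (ι : L →ₐ[k] K) {x : K} (hx : IsIntegral k x) : x ∈ Set.range ι := by
  letI : Algebra L K := ι.toRingHom.toAlgebra
  haveI : IsScalarTower k L K := IsScalarTower.of_algebraMap_eq fun a => (ι.commutes a).symm
  have h : IsIntegral L x := hx.tower_top
  obtain ⟨c, hc⟩ := (IsAlgClosed.algebraMap_bijective_of_isIntegral (k := L) (K := integralClosure L K)).2 ⟨x, h⟩
  exact ⟨c, congrArg Subtype.val hc⟩

/-- avoiding finitely many elements at a rational point -/
theorem exists_point_ne_zero {F B : Type u} [Field F] [IsAlgClosed F] [CommRing B] [IsDomain B] [Algebra F B]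
    [Algebra.FiniteType F B] (V : Finset B) (hV : (0 : B) ∉ V) : ∃ ρ : B →ₐ[F] F, ∀ v ∈ V, ρ v ≠ 0 := by
  let b := ∏ v ∈ V, v
  have hb : b ≠ 0 := Finset.prod_ne_zero_iff.2 fun v hv h => hV (h ▸ hv)
  haveI : Nontrivial (Localization.Away b) := (IsLocalization.injective (M := Submonoid.powers b) _
    (powers_le_nonZeroDivisors_of_noZeroDivisors hb)).nontrivial
  obtain ⟨m, hm⟩ := Ideal.exists_maximal (Localization.Away b)
  letI : Field (Localization.Away b ⧸ m) := Ideal.Quotient.field m
  haveI : Algebra.FiniteType B (Localization.Away b) := IsLocalization.finiteType_of_monoid_fg (Submonoid.powers b) _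
  haveI : Algebra.FiniteType F (Localization.Away b) := Algebra.FiniteType.trans (R := F) (S := B) ‹_› ‹_›
  haveI : Algebra.FiniteType F (Localization.Away b ⧸ m) :=
    Algebra.FiniteType.of_surjective (Ideal.Quotient.mkₐ F m) Ideal.Quotient.mk_surjective
  haveI : Module.Finite F (Localization.Away b ⧸ m) := finite_of_finite_type_of_isJacobsonRing F _
  let χ : Localization.Away b ⧸ m →ₐ[F] F := IsAlgClosed.lift
  let ρ : B →ₐ[F] F := χ.comp ((Ideal.Quotient.mkₐ F m).comp (IsScalarTower.toAlgHom F B (Localization.Away b)))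
  refine ⟨ρ, fun v hv h => ?_⟩
  have : ρ b ≠ 0 := (((IsLocalization.Away.algebraMap_isUnit b).map (Ideal.Quotient.mkₐ F m)).map χ).ne_zero
  exact this (by rw [map_prod]; exact Finset.prod_eq_zero hv h)

variable {kb L K : Type u} [Field kb] [Field L] [Field K] [Algebra k kb] [Algebra k L] [Algebra k K] [Algebra kb K]
  [IsScalarTower k kb K] [IsAlgClosed kb] [Algebra.IsAlgebraic k kb] [IsAlgClosed L] [IsAlgClosed K]

/-- the residue maps of the fibre -/
theorem exists_residue (s : PrimeSpectrum (L ⊗[k] kb)) :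
    ∃ χ : kb →ₐ[k] L, ∀ z, z ∈ s.asIdeal ↔ Algebra.TensorProduct.productMap (AlgHom.id k L) χ z = 0 := by
  haveI := s.2
  haveI : Algebra.IsIntegral L (L ⊗[k] kb) := inferInstance
  have hq : Function.Bijective (algebraMap L ((L ⊗[k] kb) ⧸ s.asIdeal)) :=
    IsAlgClosed.algebraMap_bijective_of_isIntegral
  let π : L ⊗[k] kb →ₐ[L] L :=
    (AlgEquiv.ofBijective (Algebra.ofId L ((L ⊗[k] kb) ⧸ s.asIdeal)) hq).symm.toAlgHom.comp (Ideal.Quotient.mkₐ L s.asIdeal)
  refine ⟨(π.restrictScalars k).comp Algebra.TensorProduct.includeRight, fun z => ?_⟩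
  have h : Algebra.TensorProduct.productMap (AlgHom.id k L) ((π.restrictScalars k).comp Algebra.TensorProduct.includeRight) =
      π.restrictScalars k := by
    refine Algebra.TensorProduct.ext (AlgHom.ext fun l => ?_) (AlgHom.ext fun c => ?_)
    · simp only [AlgHom.comp_apply, Algebra.TensorProduct.includeLeft_apply, Algebra.TensorProduct.productMap_apply_tmul,
        map_one, mul_one]
      exact (π.commutes l).symm
    · simp
  rw [h]
  show _ ↔ (AlgEquiv.ofBijective _ hq).symm (Ideal.Quotient.mk _ z) = 0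
  rw [map_eq_zero_iff _ (AlgEquiv.injective _), Ideal.Quotient.eq_zero_iff_mem]

/-- the inverse embeddings, locally constant in the point -/
theorem exists_sigma (χ : PrimeSpectrum (L ⊗[k] kb) → (kb →ₐ[k] L))
    (hχ : ∀ s z, z ∈ s.asIdeal ↔ Algebra.TensorProduct.productMap (AlgHom.id k L) (χ s) z = 0) :
    ∃ σ : algebraicClosure k L →ₐ[k] LocallyConstant (PrimeSpectrum (L ⊗[k] kb)) kb,
      ∀ s c (h : χ s c ∈ algebraicClosure k L), σ ⟨χ s c, h⟩ s = c := by
  classical
  let S := PrimeSpectrum (L ⊗[k] kb)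
  let E : IntermediateField k L := algebraicClosure k L
  have hint : ∀ (s : S) (c : kb), χ s c ∈ E := fun s c =>
    mem_algebraicClosure_iff.2 (((Algebra.IsAlgebraic.isAlgebraic (R := k) c).isIntegral).map (χ s)).isAlgebraic
  let θ : S → (kb →ₐ[k] E) := fun s => (χ s).codRestrict E.toSubalgebra (hint s)
  have hθ : ∀ s, Function.Bijective (θ s) := fun s => ⟨(θ s).toRingHom.injective, fun e => by
    obtain ⟨c, hc⟩ := mem_range_of_isIntegral (χ s) (mem_algebraicClosure_iff.1 e.2).isIntegral
    exact ⟨c, Subtype.ext hc⟩⟩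
  let σ₀ : S → (E →ₐ[k] kb) := fun s => (AlgEquiv.ofBijective (θ s) (hθ s)).symm.toAlgHom
  have hσθ : ∀ s c, σ₀ s (θ s c) = c := fun s c => (AlgEquiv.ofBijective (θ s) (hθ s)).symm_apply_apply c
  have hθσ : ∀ s e, θ s (σ₀ s e) = e := fun s e => (AlgEquiv.ofBijective (θ s) (hθ s)).apply_symm_apply e
  have hloc : ∀ e : E, IsLocallyConstant fun s => σ₀ s e := fun e => by
    have hfin : ∀ c, IsClosed {s : S | σ₀ s e = c} := fun c => by
      have : {s : S | σ₀ s e = c} =
          PrimeSpectrum.zeroLocus {(1 : L) ⊗ₜ[k] c - (e : L) ⊗ₜ[k] (1 : kb)} := by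
        ext s
        rw [PrimeSpectrum.mem_zeroLocus, Set.singleton_subset_iff]
        show _ ↔ _ ∈ s.asIdeal
        rw [hχ, map_sub, sub_eq_zero, Algebra.TensorProduct.productMap_apply_tmul,
          Algebra.TensorProduct.productMap_apply_tmul, map_one, map_one, one_mul, mul_one, AlgHom.id_apply]
        exact ⟨fun h => by rw [← h]; exact congrArg Subtype.val (hθσ s e),
          fun h => (congrArg (σ₀ s) (show θ s c = e from Subtype.ext h)).symm.trans (hσθ s c)⟩
      rw [this]
      exact PrimeSpectrum.isClosed_zeroLocus _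
    have he : IsIntegral k e := (IntermediateField.isIntegral_iff).2 (mem_algebraicClosure_iff.1 e.2).isIntegral
    let T : Finset kb := ((minpoly k e).aroots kb).toFinset
    have hT : ∀ s, σ₀ s e ∈ T := fun s => by
      rw [Multiset.mem_toFinset, Polynomial.mem_aroots, Polynomial.aeval_algHom_apply, minpoly.aeval, map_zero]
      exact ⟨minpoly.ne_zero he, rfl⟩
    refine IsLocallyConstant.iff_isOpen_fiber.2 fun c => ?_
    have : (fun s => σ₀ s e) ⁻¹' {c} = (⋃ d ∈ T.erase c, {s : S | σ₀ s e = d})ᶜ := by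
      ext s
      simp only [Set.mem_preimage, Set.mem_singleton_iff, Set.mem_compl_iff, Set.mem_iUnion, Set.mem_ofPred_eq, exists_prop]
      exact ⟨fun h ⟨d, hd, hd'⟩ => (Finset.mem_erase.1 hd).1 (hd'.symm.trans h),
        fun h => by_contra fun hne => h ⟨_, Finset.mem_erase.2 ⟨hne, hT s⟩, rfl⟩⟩
    rw [this]
    exact (Set.Finite.isClosed_biUnion (T.erase c).finite_toSet fun d _ => hfin d).isOpen_compl
  refine ⟨{ toFun := fun e => ⟨fun s => σ₀ s e, hloc e⟩
            map_one' := LocallyConstant.ext fun s => map_one (σ₀ s)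
            map_mul' := fun a b => LocallyConstant.ext fun s => map_mul (σ₀ s) a b
            map_zero' := LocallyConstant.ext fun s => map_zero (σ₀ s)
            map_add' := fun a b => LocallyConstant.ext fun s => map_add (σ₀ s) a b
            commutes' := fun a => LocallyConstant.ext fun s => (σ₀ s).commutes a }, fun s c h => hσθ s c⟩

/-- extension along a transcendence basis and an algebraic extension -/
theorem exists_extension_of_basis {S : Type u} [TopologicalSpace S] {E F : Type u} [Field E] [Field F] [Algebra E F]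
    {I : Type u} (x : I → F) (hx : IsTranscendenceBasis E x) (φ₀ : E →+* LocallyConstant S K) (c : I → LocallyConstant S K)
    (hu : ∀ p : MvPolynomial I E, p ≠ 0 → IsUnit (MvPolynomial.eval₂Hom φ₀ c p)) :
    ∃ Φ : F →+* LocallyConstant S K, ∀ e, Φ (algebraMap E F e) = φ₀ e := by
  let P' : FractionRing (MvPolynomial I E) →+* LocallyConstant S K :=
    IsLocalization.lift (M := nonZeroDivisors (MvPolynomial I E)) (g := MvPolynomial.eval₂Hom φ₀ c)
      fun y => hu y (nonZeroDivisors.ne_zero y.2)
  haveI : Algebra.IsAlgebraic (IntermediateField.adjoin E (Set.range x)) F := hx.isAlgebraic_field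
  let eM := hx.1.aevalEquivField
  obtain ⟨Φ', hΦ'⟩ := exists_extension (L := F) (P'.comp eM.symm.toRingEquiv.toRingHom)
  refine ⟨Φ', fun e => ?_⟩
  rw [IsScalarTower.algebraMap_apply E (IntermediateField.adjoin E (Set.range x)) F]
  refine (DFunLike.congr_fun hΦ' _).trans ?_
  show P' (eM.symm (algebraMap E (IntermediateField.adjoin E (Set.range x)) e)) = _
  rw [AlgEquiv.commutes, IsScalarTower.algebraMap_apply E (MvPolynomial I E) (FractionRing (MvPolynomial I E))]
  simp only [P', IsLocalization.lift_eq]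
  exact MvPolynomial.eval₂Hom_C _ _ e

omit [IsAlgClosed kb] in
/-- a field embedded by a family of embeddings of its algebraic part -/
theorem exists_lift_sigma {S : Type u} [TopologicalSpace S] (ι : L →ₐ[k] K)
    (σ : algebraicClosure k L →ₐ[k] LocallyConstant S kb) :
    ∃ Φ : L →ₐ[k] LocallyConstant S K, ∀ (e : algebraicClosure k L) s, Φ (e : L) s = algebraMap kb K (σ e s) := by
  classical
  let E : IntermediateField k L := algebraicClosure k L
  let ψ₀ : kb →ₐ[k] K := IsScalarTower.toAlgHom k kb K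
  let φ₀ : E →+* LocallyConstant S K :=
    { toFun := fun e => (σ e).map ψ₀
      map_one' := LocallyConstant.ext fun s => show ψ₀ (σ 1 s) = 1 by rw [map_one σ]; exact map_one ψ₀
      map_mul' := fun a b => LocallyConstant.ext fun s =>
        show ψ₀ (σ (a * b) s) = ψ₀ (σ a s) * ψ₀ (σ b s) by rw [map_mul σ]; exact map_mul ψ₀ _ _
      map_zero' := LocallyConstant.ext fun s => show ψ₀ (σ 0 s) = 0 by rw [map_zero σ]; exact map_zero ψ₀
      map_add' := fun a b => LocallyConstant.ext fun s =>
        show ψ₀ (σ (a + b) s) = ψ₀ (σ a s) + ψ₀ (σ b s) by rw [map_add σ]; exact map_add ψ₀ _ _ }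
  obtain ⟨Bs, hBs⟩ := exists_isTranscendenceBasis E L
  let x : Bs → L := Subtype.val
  let P : MvPolynomial Bs E →+* LocallyConstant S K :=
    MvPolynomial.eval₂Hom φ₀ fun b => LocallyConstant.const S (ι (x b))
  have hP : ∀ p : MvPolynomial Bs E, p ≠ 0 → IsUnit (P p) := fun p hp => isUnit_of_forall_ne_zero _ fun s => by
    let f : E →ₐ[k] K := ψ₀.comp ((LocallyConstant.evalₐ k s).comp σ)
    have hf : ∀ e, ∃ e' : E, ι e' = f e := fun e => by
      have hi : IsIntegral k (f e) :=
        ((IntermediateField.isIntegral_iff).2 (mem_algebraicClosure_iff.1 e.2).isIntegral).map f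
      obtain ⟨l, hl⟩ := mem_range_of_isIntegral ι hi
      exact ⟨⟨l, mem_algebraicClosure_iff.2 ((isIntegral_algHom_iff ι ι.toRingHom.injective).1 (hl ▸ hi)).isAlgebraic⟩, hl⟩
    choose μ₀ hμ₀ using hf
    have hinj : Function.Injective fun e : E => ι (e : L) := fun a b h => Subtype.ext (ι.toRingHom.injective h)
    let μ : E →+* E :=
      { toFun := μ₀
        map_one' := hinj (show ι (μ₀ 1) = ι ((1 : E) : L) by rw [hμ₀, map_one f]; exact (map_one ι).symm)
        map_mul' := fun a b => hinj (show ι (μ₀ (a * b)) = ι ((μ₀ a : L) * μ₀ b) by rw [map_mul, hμ₀, hμ₀, hμ₀, map_mul])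
        map_zero' := hinj (show ι (μ₀ 0) = ι ((0 : E) : L) by rw [hμ₀, map_zero f]; exact (map_zero ι).symm)
        map_add' := fun a b => hinj (show ι (μ₀ (a + b)) = ι ((μ₀ a : L) + μ₀ b) by rw [map_add, hμ₀, hμ₀, hμ₀, map_add]) }
    have hev : (ev (K := K) s).comp P =
        ι.toRingHom.comp ((MvPolynomial.eval₂Hom (algebraMap E L) x).comp (MvPolynomial.map μ)) := by
      refine MvPolynomial.ringHom_ext (fun e => ?_) (fun b => ?_)
      · simp only [RingHom.comp_apply, P, MvPolynomial.eval₂Hom_C, MvPolynomial.map_C]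
        exact (hμ₀ e).symm
      · simp only [RingHom.comp_apply, P, MvPolynomial.eval₂Hom_X', MvPolynomial.map_X]
        rfl
    show ev s (P p) ≠ 0
    intro h
    have h0 : ι (MvPolynomial.aeval x (MvPolynomial.map μ p)) = 0 := (DFunLike.congr_fun hev p).symm.trans h
    exact hp ((map_eq_zero_iff _ (MvPolynomial.map_injective μ μ.injective)).1
      ((map_eq_zero_iff _ hBs.1).1 ((map_eq_zero_iff _ ι.toRingHom.injective).1 h0)))
  obtain ⟨Φ', hΦE⟩ := exists_extension_of_basis x hBs φ₀ _ hP
  have hΦk : ∀ a : k, Φ' (algebraMap k L a) = algebraMap k (LocallyConstant S K) a := fun a => by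
    rw [IsScalarTower.algebraMap_apply k E L, hΦE]
    refine LocallyConstant.ext fun s => ?_
    show ψ₀ (σ (algebraMap k E a) s) = _
    rw [AlgHom.commutes σ]
    exact ψ₀.commutes a
  exact ⟨{ Φ' with commutes' := hΦk }, fun e s => congr($(hΦE e) s)⟩

/-- evaluation of a tensor at a member of the family -/
abbrev evAt {S : Type u} [TopologicalSpace S] (Φ : L →ₐ[k] LocallyConstant S K) (s : S)
    {B : Type u} [CommRing B] [Algebra k B] (r : B →ₐ[k] K) : L ⊗[k] B →ₐ[k] K :=
  Algebra.TensorProduct.productMap ((LocallyConstant.evalₐ k s).comp Φ) r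

omit [IsAlgClosed L] [IsAlgClosed K] [Algebra.IsAlgebraic k kb] in
/-- uniform specialisation -/
theorem exists_specialisation {S : Type u} [TopologicalSpace S] [CompactSpace S]
    (σ : algebraicClosure k L →ₐ[k] LocallyConstant S kb) (hσ : ∀ s c, ∃ e, σ e s = c)
    (Φ : L →ₐ[k] LocallyConstant S K) (hΦ : ∀ (e : algebraicClosure k L) s, Φ (e : L) s = algebraMap kb K (σ e s))
    (B : Type u) [CommRing B] [IsDomain B] [Algebra kb B] [Algebra.FiniteType kb B] [Algebra k B] [IsScalarTower k kb B]
    (inc : B →ₐ[kb] K) (G : Finset (L ⊗[k] B)) (hG : ∀ s, ∃ g ∈ G, evAt Φ s (inc.restrictScalars k) g ≠ 0) :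
    ∃ ρ : B →ₐ[kb] kb, ∀ s, ∃ g ∈ G, evAt Φ s (((Algebra.ofId kb K).comp ρ).restrictScalars k) g ≠ 0 := by
  classical
  let E : IntermediateField k L := algebraicClosure k L
  let bL := Module.Basis.ofVectorSpace E L
  have hexp : ∀ g : L ⊗[k] B, ∃ f : _ →₀ LocallyConstant S B, ∀ s (r : B →ₐ[kb] K),
      evAt Φ s (r.restrictScalars k) g = f.sum fun i v => Φ (bL i) s * r (v s) := fun g => by
    induction g using TensorProduct.induction_on with
    | zero => exact ⟨0, fun s r => by rw [map_zero, Finsupp.sum_zero_index]⟩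
    | tmul l β =>
      refine ⟨(bL.repr l).mapRange (fun a => (σ a).map (· • β)) (LocallyConstant.ext fun s => by
        show σ 0 s • β = 0
        rw [map_zero σ]
        exact zero_smul _ _), fun s r => ?_⟩
      rw [Finsupp.sum_mapRange_index (fun i => show Φ (bL i) s * r 0 = 0 by rw [map_zero, mul_zero])]
      rw [Algebra.TensorProduct.productMap_apply_tmul]
      show ((LocallyConstant.evalₐ k s).comp Φ) l * r β = _
      conv_lhs => rw [← bL.linearCombination_repr l, Finsupp.linearCombination_apply, map_finsuppSum, Finsupp.sum_mul]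
      refine Finsupp.sum_congr fun i _ => ?_
      show ((LocallyConstant.evalₐ k s).comp Φ) (((bL.repr l i : E) : L) * bL i) * r β =
        Φ (bL i) s * r (σ (bL.repr l i) s • β)
      rw [map_mul, Algebra.smul_def, map_mul, AlgHom.commutes]
      show Φ _ s * Φ _ s * r β = _
      rw [hΦ]
      ring
    | add g g' hg hg' =>
      obtain ⟨f, hf⟩ := hg
      obtain ⟨f', hf'⟩ := hg'
      refine ⟨f + f', fun s r => ?_⟩
      rw [map_add, hf, hf', Finsupp.sum_add_index' (fun i => show Φ (bL i) s * r 0 = 0 by rw [map_zero, mul_zero])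
        (fun i v w => show _ * r (v s + w s) = _ by rw [map_add, mul_add])]
  choose f hf using hexp
  let V : Finset B := (G.biUnion fun g => (f g).support.biUnion fun i => (f g i).range_finite.toFinset).erase 0
  obtain ⟨ρ, hρ⟩ := exists_point_ne_zero (F := kb) V (Finset.notMem_erase _ _)
  refine ⟨ρ, fun s => ?_⟩
  obtain ⟨g, hg, hne⟩ := hG s
  refine ⟨g, hg, ?_⟩
  rw [hf] at hne ⊢
  obtain ⟨i, hi, hi'⟩ := Finset.exists_ne_zero_of_sum_ne_zero hne
  have hvi : f g i s ≠ 0 := fun h => hi' (by simp only [h, map_zero, mul_zero])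
  have hV : f g i s ∈ V := Finset.mem_erase.2 ⟨hvi, Finset.mem_biUnion.2 ⟨g, hg,
    Finset.mem_biUnion.2 ⟨i, hi, (f g i).range_finite.mem_toFinset.2 ⟨s, rfl⟩⟩⟩⟩
  intro h0
  choose lift hlift using hσ s
  let lift' : kb → E := fun c => if c = 0 then 0 else lift c
  have hlift' : ∀ c, σ (lift' c) s = c := fun c => by
    by_cases h : c = 0
    · simp only [lift', if_pos h]
      rw [map_zero σ, h]
      rfl
    · simp only [lift', if_neg h, hlift]
  have hz : (fun v : LocallyConstant S B => lift' (ρ (v s))) 0 = 0 := by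
    show lift' (ρ 0) = 0
    simp [lift']
  let w : _ →₀ E := (f g).mapRange (fun v => lift' (ρ (v s))) hz
  have hw : Finsupp.linearCombination E bL w = 0 := by
    refine ((LocallyConstant.evalₐ k s).comp Φ).toRingHom.injective ?_
    rw [map_zero, ← h0, Finsupp.linearCombination_apply]
    simp only [w]
    erw [Finsupp.sum_mapRange_index (fun i => zero_smul E (bL i))]
    rw [map_finsuppSum]
    refine Finsupp.sum_congr fun i _ => ?_
    show Φ ((lift' (ρ (f g i s)) : L) * bL i) s = Φ (bL i) s * algebraMap kb K (ρ (f g i s))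
    rw [map_mul]
    show Φ _ s * Φ _ s = _
    rw [hΦ, hlift']
    exact mul_comm _ _
  have hwi := DFunLike.congr_fun (linearIndependent_iff.1 bL.linearIndependent w hw) i
  rw [Finsupp.mapRange_apply, Finsupp.zero_apply] at hwi
  refine hρ _ hV ?_
  rw [← hlift' (ρ (f g i s)), hwi, map_zero σ]
  rfl

/-- the family -/
theorem exists_family (ι : L →ₐ[k] K) :
    ∃ Φ : L →ₐ[k] LocallyConstant (PrimeSpectrum (L ⊗[k] kb)) K,
      (∀ s z, z ∈ s.asIdeal ↔ evAt Φ s (IsScalarTower.toAlgHom k kb K) z = 0) ∧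
      ∀ (B : Type u) [CommRing B] [IsDomain B] [Algebra kb B] [Algebra.FiniteType kb B] [Algebra k B]
        [IsScalarTower k kb B] (inc : B →ₐ[kb] K) (G : Finset (L ⊗[k] B)),
        (∀ s, ∃ g ∈ G, evAt Φ s (inc.restrictScalars k) g ≠ 0) →
        ∃ ρ : B →ₐ[kb] kb, ∀ s, ∃ g ∈ G, evAt Φ s (((Algebra.ofId kb K).comp ρ).restrictScalars k) g ≠ 0 := by
  choose χ hχ using exists_residue (k := k) (kb := kb) (L := L)
  obtain ⟨σ, hσ⟩ := exists_sigma χ hχ
  obtain ⟨Φ, hΦ⟩ := exists_lift_sigma ι σ
  have hmem : ∀ s c, χ s c ∈ algebraicClosure k L := fun s c =>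
    mem_algebraicClosure_iff.2 (((Algebra.IsAlgebraic.isAlgebraic (R := k) c).isIntegral).map (χ s)).isAlgebraic
  refine ⟨Φ, fun s z => ?_, fun B _ _ _ _ _ _ inc G hG =>
    exists_specialisation σ (fun s c => ⟨_, hσ s c (hmem s c)⟩) Φ hΦ B inc G hG⟩
  have h : evAt Φ s (IsScalarTower.toAlgHom k kb K) = ((LocallyConstant.evalₐ k s).comp Φ).comp
      (Algebra.TensorProduct.productMap (AlgHom.id k L) (χ s)) := by
    refine Algebra.TensorProduct.ext' fun l c => ?_
    simp only [Algebra.TensorProduct.productMap_apply_tmul, AlgHom.comp_apply, AlgHom.id_apply, map_mul]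
    congr 1
    show algebraMap kb K c = Φ ((⟨χ s c, hmem s c⟩ : algebraicClosure k L) : L) s
    rw [hΦ, hσ]
  rw [h, AlgHom.comp_apply, hχ]
  exact (map_eq_zero_iff (((LocallyConstant.evalₐ k s).comp Φ).toRingHom) (RingHom.injective _)).symm

end Groth.Agent.FieldFamily
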