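import Groth.Agent.FieldDesc.Limit
import Groth.Prelude.Def_AlgSpGpd
import Mathlib

/-!
# The group scheme representing the base change of a group space to a field
-/

set_option autoImplicit false
set_option linter.style.haveILetI false
set_option backward.isDefEq.respectTransparency false

universe u

open CategoryTheory CategoryTheory.Limits AlgebraicGeometry MonoidalCategory CartesianMonoidalCategory Opposite
open scoped CategoryTheory.MonObj

noncomputable section

namespace Groth.Agent.FieldFamily

open _root_.AlgSp Groth.Agent.AlgSpLib Groth.Agent.FieldDesc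

variable {k : Type u} [Field k]

/-- a scheme over a field regarded over the ground field -/
abbrev overGround {K : Type u} [CommRing K] [Algebra k K] (T : Over (Spec (CommRingCat.of K))) :
    Over (Spec (CommRingCat.of k)) :=
  Over.mk (T.hom ≫ Spec.map (CommRingCat.ofHom (algebraMap k K)))

/-- the map to the bigger field -/
abbrev toExt {K : Type u} [CommRing K] [Algebra k K] (T : Over (Spec (CommRingCat.of K))) :
    overGround (k := k) T ⟶ Ext (k := k) K :=
  Over.homMk T.hom rfl

/-- a scheme representing the base change of a group space is a group scheme -/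
theorem nonempty_grpObj_of_iso_bc (G : Over ((yon (Spec (CommRingCat.of k))).obj (Over.mk (𝟙 _)))) [GrpObj G]
    {K : Type u} [Field K] [Algebra k K] (W : Over (Spec (CommRingCat.of K)))
    (e : (yon _).obj (overGround (k := k) W) ≅ bc G.left K)
    (he : (yon _).map (toExt W) = e.hom ≫ Limits.prod.snd) : Nonempty (GrpObj W) := by
  let S := Spec (CommRingCat.of k)
  let hT : IsTerminal ((yon S).obj (Over.mk (𝟙 S))) := Over.mkIdTerminal.isTerminalObj (yon S)
  let P : Over (Spec (CommRingCat.of K)) → Over ((yon S).obj (Over.mk (𝟙 S))) :=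
    fun T => Over.mk (hT.from ((yon S).obj (overGround T)))
  let g : ∀ {T T' : Over (Spec (CommRingCat.of K))}, (T ⟶ T') → (overGround (k := k) T ⟶ overGround T') :=
    fun {T T'} h => Over.homMk h.left (by
      show h.left ≫ T'.hom ≫ _ = T.hom ≫ _
      rw [Over.w_assoc h])
  let p : ∀ {T T' : Over (Spec (CommRingCat.of K))}, (T ⟶ T') → (P T ⟶ P T') :=
    fun {T T'} h => Over.homMk ((yon S).map (g h)) (hT.hom_ext _ _)
  have gcomp : ∀ {T T' T'' : Over (Spec (CommRingCat.of K))} (a : T ⟶ T') (b : T' ⟶ T''), g (a ≫ b) = g a ≫ g b :=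
    fun a b => Over.OverMorphism.ext (Over.comp_left _ _ _ a b)
  have pcomp : ∀ {T T' T'' : Over (Spec (CommRingCat.of K))} (a : T ⟶ T') (b : T' ⟶ T''), p (a ≫ b) = p a ≫ p b :=
    fun a b => Over.OverMorphism.ext (by
      show (yon S).map (g (a ≫ b)) = (yon S).map (g a) ≫ (yon S).map (g b)
      rw [gcomp, Functor.map_comp])
  have pid : ∀ T : Over (Spec (CommRingCat.of K)), p (𝟙 T) = 𝟙 (P T) := fun T => Over.OverMorphism.ext (by
    show (yon S).map (g (𝟙 T)) = _
    rw [show g (𝟙 T) = 𝟙 _ from Over.OverMorphism.ext rfl, CategoryTheory.Functor.map_id]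
    rfl)
  let pmul : ∀ {T T' : Over (Spec (CommRingCat.of K))}, (T ⟶ T') → ((P T' ⟶ G) →* (P T ⟶ G)) := fun {T T'} h =>
    { toFun := fun c => p h ≫ c
      map_one' := MonObj.comp_one _
      map_mul' := fun a b => MonObj.comp_mul _ a b }
  let F : (Over (Spec (CommRingCat.of K)))ᵒᵖ ⥤ GrpCat :=
    { obj := fun T => GrpCat.of (P T.unop ⟶ G)
      map := fun h => GrpCat.ofHom (pmul h.unop)
      map_id := fun T => GrpCat.hom_ext (MonoidHom.ext fun c => by
        show p (𝟙 T.unop) ≫ c = c
        rw [pid, Category.id_comp])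
      map_comp := fun h h' => GrpCat.hom_ext (MonoidHom.ext fun c => by
        show p (h'.unop ≫ h.unop) ≫ c = p h'.unop ≫ p h.unop ≫ c
        rw [pcomp, Category.assoc]) }
  let toC : ∀ {T : Over (Spec (CommRingCat.of K))}, (T ⟶ W) → (P T ⟶ G) := fun {T} h =>
    Over.homMk ((yon S).map (g h) ≫ e.hom ≫ Limits.prod.fst) (hT.hom_ext _ _)
  have hinj : ∀ {T : Over (Spec (CommRingCat.of K))}, Function.Injective (toC (T := T)) := fun {T} a b h => by
    have h1 : (yon S).map (g a) ≫ e.hom ≫ Limits.prod.fst = (yon S).map (g b) ≫ e.hom ≫ Limits.prod.fst :=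
      congrArg CommaMorphism.left h
    have h2 : ∀ c : T ⟶ W, (yon S).map (g c) ≫ e.hom ≫ Limits.prod.snd = (yon S).map (toExt T) := fun c => by
      rw [← he, ← Functor.map_comp]
      exact congrArg _ (Over.OverMorphism.ext (Over.w c))
    have h3 : g a = g b := (yon S).map_injective ((cancel_mono e.hom).1 (Limits.prod.hom_ext
      (by simpa using h1) (by simpa using (h2 a).trans (h2 b).symm)))
    exact Over.OverMorphism.ext (show (g a).left = (g b).left by rw [h3])
  have hsurj : ∀ {T : Over (Spec (CommRingCat.of K))}, Function.Surjective (toC (T := T)) := fun {T} c => by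
    obtain ⟨m, hm⟩ := exists_map_eq (Limits.prod.lift c.left ((yon S).map (toExt T)) ≫ e.inv)
    have hmW : m ≫ toExt W = toExt T := (yon S).map_injective (by
      rw [Functor.map_comp, hm, he, Category.assoc, Iso.inv_hom_id_assoc, Limits.prod.lift_snd])
    have hmK : m.left ≫ W.hom = T.hom := congrArg CommaMorphism.left hmW
    refine ⟨Over.homMk m.left hmK, Over.OverMorphism.ext ?_⟩
    show (yon S).map (g (Over.homMk m.left hmK : T ⟶ W)) ≫ e.hom ≫ Limits.prod.fst = c.left
    rw [show g (Over.homMk m.left hmK : T ⟶ W) = m from Over.OverMorphism.ext rfl, hm, Category.assoc,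
      Iso.inv_hom_id_assoc, Limits.prod.lift_fst]
  refine ⟨GrpObj.ofRepresentableBy W F
    { homEquiv := fun {T} => Equiv.ofBijective toC ⟨hinj, hsurj⟩
      homEquiv_comp := fun {T T'} f h => Over.OverMorphism.ext ?_ }⟩
  show (yon S).map (g (f ≫ h)) ≫ _ = (yon S).map (g f) ≫ (yon S).map (g h) ≫ _
  rw [gcomp, Functor.map_comp, Category.assoc]

end Groth.Agent.FieldFamily
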