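import Groth.Agent.FieldFamily.Family
import Groth.Agent.FieldFamily.BigField
import Groth.Agent.FieldFamily.GroupScheme
import Groth.Agent.FieldDesc.Group
import Groth.Agent.S7489
import Mathlib

/-!
# Separated group spaces over a field are schemes
-/

set_option autoImplicit false
set_option linter.style.haveILetI false
set_option backward.isDefEq.respectTransparency false

universe u

open CategoryTheory CategoryTheory.Limits AlgebraicGeometry MonoidalCategory CartesianMonoidalCategory TensorProduct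
open scoped CategoryTheory.MonObj

noncomputable section

namespace Groth.Agent.FieldFamily

open _root_.AlgSp Groth.Agent.AlgSpLib Groth.Agent.FieldDesc

variable {k : Type u} [Field k]

theorem extHom_comp {A B C : Type u} [CommRing A] [CommRing B] [CommRing C] [Algebra k A] [Algebra k B] [Algebra k C]
    (f : A →ₐ[k] B) (g : B →ₐ[k] C) : extHom g ≫ extHom f = extHom (g.comp f) :=
  Over.OverMorphism.ext (by
    show Spec.map _ ≫ Spec.map _ = Spec.map _
    rw [← Spec.map_comp]
    rfl)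

/-- constants -/
def constAlg (S : Type u) [TopologicalSpace S] (K : Type u) [Field K] [Algebra k K] :
    K →ₐ[k] LocallyConstant S K :=
  { LocallyConstant.constRingHom with commutes' := fun _ => rfl }

/-- the base change of a scheme model to a bigger field -/
theorem exists_bc_model {X : Sp (Spec (CommRingCat.of k))} {kb K : Type u} [Field kb] [Field K] [Algebra k kb]
    [Algebra k K] (ψ : kb →ₐ[k] K) {T : Over (Spec (CommRingCat.of k))} (e : (yon _).obj T ≅ bc X kb)
    (q : T ⟶ Ext kb) (hq : (yon _).map q = e.hom ≫ Limits.prod.snd) :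
    ∃ eW : (yon _).obj (overGround (k := k)
        (Over.mk (Limits.pullback.fst (Spec.map (CommRingCat.ofHom ψ.toRingHom)) q.left))) ≅ bc X K,
      (yon _).map (toExt _) = eW.hom ≫ Limits.prod.snd := by
  let W : Over (Spec (CommRingCat.of K)) := Over.mk (Limits.pullback.fst (Spec.map (CommRingCat.ofHom ψ.toRingHom)) q.left)
  have hw : Limits.pullback.snd (Spec.map (CommRingCat.ofHom ψ.toRingHom)) q.left ≫ T.hom =
      (overGround (k := k) W).hom := by
    show _ = Limits.pullback.fst _ _ ≫ (Ext (k := k) K).hom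
    rw [← Over.w (extHom ψ), ← Over.w q, ← Category.assoc, ← Category.assoc]
    congr 1
    exact Limits.pullback.condition.symm
  let toT : overGround (k := k) W ⟶ T := Over.homMk (Limits.pullback.snd _ _) hw
  have sq1 : IsPullback ((yon _).map toT ≫ e.hom) ((yon _).map (toExt W))
      (Limits.prod.snd : bc X kb ⟶ _) ((yon _).map (extHom ψ)) := by
    have h : IsPullback ((yon _).map toT) ((yon _).map (toExt W)) ((yon _).map q) ((yon _).map (extHom ψ)) :=
      isPullback_yon_iff.2 (IsPullback.of_hasPullback (Spec.map (CommRingCat.ofHom ψ.toRingHom)) q.left).flip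
    refine IsPullback.of_iso h (Iso.refl _) e (Iso.refl _) (Iso.refl _) ?_ ?_ ?_ ?_
    · simp
    · simp
    · simp [hq]
    · simp
  let sq2 := GeomPi0.isPullback_prod_map X (extHom ψ)
  exact ⟨sq1.isoIsPullback _ _ sq2, (sq1.isoIsPullback_hom_snd _ _ sq2).symm⟩

/-- the image of a profinite family lies in an affine open of a given open subspace, over a big field -/
theorem exists_affine_big {X Y : Sp (Spec (CommRingCat.of k))} (j : Y ⟶ X) (hj : RepWith @IsOpenImmersion j)
    {K : Type u} [Field K] [IsAlgClosed K] [Algebra k K] (W : Over (Spec (CommRingCat.of K))) [GrpObj W] [JacobsonSpace W.left]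
    (hrat : ∀ g : W.left, IsClosed ({g} : Set W.left) → ∃ x : Spec (CommRingCat.of K) ⟶ W.left,
      x ≫ W.hom = 𝟙 _ ∧ x (IsLocalRing.closedPoint K) = g)
    (eW : (yon _).obj (overGround (k := k) W) ≅ bc X K) (he : (yon _).map (toExt W) = eW.hom ≫ Limits.prod.snd)
    (S : Type u) [TopologicalSpace S] [CompactSpace S]
    (fA : (yon _).obj (Ext (k := k) (LocallyConstant S K)) ⟶ bc Y K)
    (hfA : fA ≫ Limits.prod.snd = (yon _).map (extHom (constAlg S K))) :
    ∃ (Uo : Over (Spec (CommRingCat.of k))) (a : (yon _).obj Uo ⟶ bc Y K), IsAffine Uo.left ∧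
      RepWith @IsOpenImmersion a ∧ ∀ t, Points.ofPt fA t ∈ Set.range (Points.ofPt a) := by
  classical
  let A := LocallyConstant S K
  let jK : bc Y K ⟶ bc X K := Limits.prod.map j (𝟙 _)
  have hjK : RepWith @IsOpenImmersion jK := repWith_baseChange (isPullback_bc_of_mono j K).flip hj
  haveI : Mono jK := mono_of_repWith_immersion (repWith_mono (P := @IsOpenImmersion) (Q := @IsImmersion)
    (fun _ _ g hg => have : IsOpenImmersion g := hg; inferInstance) hjK)
  obtain ⟨m, hm⟩ := exists_map_eq (fA ≫ jK ≫ eW.inv)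
  have hmW : m ≫ toExt W = extHom (constAlg S K) := (yon _).map_injective (by
    rw [Functor.map_comp, hm, he]
    simp [jK, hfA])
  have hf : m.left ≫ W.hom = Spec.map (CommRingCat.ofHom (algebraMap K A)) := congrArg CommaMorphism.left hmW
  obtain ⟨U, hU, hUf⟩ := S7489.result K W hrat A (exists_subalgebra_pi (K := K) (S := S)) m.left hf
  obtain ⟨O, fstO, sqO⟩ := SchImg.exists_open_pullback hjK eW.hom
  have hjm : ∀ t, Points.map jK (Points.ofPt fA t) = Points.ofPt eW.hom (m.left t) := fun t => by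
    rw [Points.map_ofPt, ← ofPt_comp, hm]
    simp
  have hOf : ∀ t, m.left t ∈ O := fun t => (SchImg.mem_open_iff sqO _).2 ⟨_, hjm t⟩
  -- a basic open
  let f' := IsOpenImmersion.lift hU.fromSpec m.left (by rw [IsAffineOpen.range_fromSpec]; exact hUf)
  obtain ⟨χ, hχ⟩ := Spec.map_surjective f'
  have hχf : Spec.map χ ≫ hU.fromSpec = m.left := by rw [hχ]; exact IsOpenImmersion.lift_fac _ _ _
  obtain ⟨φ, hφ⟩ := Spec.map_surjective (hU.fromSpec ≫ W.hom)
  letI : Algebra K Γ(W.left, U) := φ.hom.toAlgebra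
  have hφχ : φ ≫ χ = CommRingCat.ofHom (algebraMap K A) := Spec.map_injective (by
    rw [Spec.map_comp, hφ, ← Category.assoc, hχf, hf])
  let χa : Γ(W.left, U) →ₐ[K] A :=
    { χ.hom with commutes' := fun c => congr(($hφχ).hom c) }
  let O' : (Spec Γ(W.left, U)).Opens := hU.fromSpec ⁻¹ᵁ O
  have hs : ∀ s : S, ∃ g : Γ(W.left, U), (∀ P : PrimeSpectrum Γ(W.left, U), P ∈ PrimeSpectrum.basicOpen g → P ∈ O') ∧
      χa g s ≠ 0 := fun s => by
    let p : PrimeSpectrum A := ⟨RingHom.ker (ev s), RingHom.ker_isPrime _⟩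
    have hp : Spec.map χ p ∈ O' := by
      show hU.fromSpec (Spec.map χ p) ∈ O
      rw [← Scheme.Hom.comp_apply, hχf]
      exact hOf p
    obtain ⟨_, ⟨g, rfl⟩, hgp, hgO⟩ :=
      (PrimeSpectrum.isTopologicalBasis_basic_opens (R := Γ(W.left, U))).exists_subset_of_mem_open hp O'.2
    exact ⟨g, fun P hP => hgO hP, hgp⟩
  choose g hgO hgs using hs
  have hopen : ∀ x : Γ(W.left, U), IsOpen {s | χa x s ≠ 0} := fun x =>
    (χa x).isLocallyConstant {v | v ≠ 0}
  obtain ⟨t, ht⟩ := isCompact_univ.elim_finite_subcover (fun s => {s' | χa (g s) s' ≠ 0}) (fun s => hopen _)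
    (fun s _ => Set.mem_iUnion.2 ⟨s, hgs s⟩)
  obtain ⟨g₀, hg₀, hg₀s⟩ := exists_combination χa (t.image g)
  have hne : ∀ s, χa g₀ s ≠ 0 := fun s => by
    obtain ⟨i, hi, his⟩ := Set.mem_iUnion₂.1 (ht (Set.mem_univ s))
    exact hg₀s s ⟨g i, Finset.mem_image_of_mem g hi, his⟩
  let V : W.left.Opens := hU.fromSpec ''ᵁ PrimeSpectrum.basicOpen g₀
  have hV : IsAffineOpen V :=
    (IsAffineOpen.Spec_basicOpen g₀).image_of_isOpenImmersion hU.fromSpec
  have hVO : V ≤ O := by
    rintro _ ⟨P, hP, rfl⟩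
    by_contra hPO
    refine hP (Ideal.span_le.2 (fun x hx => ?_) hg₀)
    obtain ⟨s, -, rfl⟩ := Finset.mem_image.1 hx
    by_contra hxP
    exact hPO (hgO s P hxP)
  have hVf : ∀ t, m.left t ∈ V := fun t => by
    refine ⟨Spec.map χ t, ?_, show (Spec.map χ ≫ hU.fromSpec) t = m.left t from congrArg (fun h : Spec (CommRingCat.of A) ⟶ W.left => (⇑h) t) hχf⟩
    intro h
    exact (t : PrimeSpectrum A).2.ne_top (Ideal.eq_top_of_isUnit_mem _ h (isUnit_of_forall_ne_zero _ hne))
  let Wk := overGround (k := k) W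
  let Uo : Over (Spec (CommRingCat.of k)) := Over.mk (V.ι ≫ Wk.hom)
  let i : Uo ⟶ Over.mk (O.ι ≫ Wk.hom) := Over.homMk (W.left.homOfLE hVO) (by
    show W.left.homOfLE hVO ≫ O.ι ≫ _ = _
    rw [Scheme.homOfLE_ι_assoc]
    rfl)
  have hfst : RepWith @IsOpenImmersion fstO := repWith_baseChange sqO.flip (repWith_of_isIso eW.hom)
  refine ⟨Uo, (yon _).map i ≫ fstO, hV,
    repWith_comp ((repWith_yon_iff i).2 (inferInstanceAs (IsOpenImmersion (W.left.homOfLE hVO)))) hfst,
    fun t => ⟨⟨m.left t, hVf t⟩, SpQS.injective_points_of_mono jK ?_⟩⟩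
  rw [hjm, Points.map_ofPt, Category.assoc, sqO.w, ← Category.assoc, ← Functor.map_comp, ofPt_comp]
  congr 1
  have e := W.left.homOfLE_ι hVO
  show (W.left.homOfLE hVO ≫ O.ι) (⟨m.left t, hVf t⟩ : V.toScheme) = _
  rw [e]
  rfl

set_option maxHeartbeats 800000 in
/-- descent of the affine open from the big field -/
theorem exists_affine_specialised {Y : Sp (Spec (CommRingCat.of k))} (hYa : IsAlgSpace Y) (hYq : IsQuasiCompactSp Y)
    (hYs : IsQuasiSeparatedSp Y) {kb K L : Type u} [Field kb] [Field K] [Field L] [Algebra k kb] [Algebra k K]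
    [Algebra k L] [Algebra kb K] [IsScalarTower k kb K]
    (b : (yon _).obj (Ext (k := k) L) ⟶ Y) (w : Points Y) (hb : ∀ z, Points.ofPt b z = w)
    (Φ : L →ₐ[k] LocallyConstant (PrimeSpectrum (L ⊗[k] kb)) K)
    (hker : ∀ s z, z ∈ s.asIdeal ↔ evAt Φ s (IsScalarTower.toAlgHom k kb K) z = 0)
    (hsp : ∀ (B : Type u) [CommRing B] [IsDomain B] [Algebra kb B] [Algebra.FiniteType kb B] [Algebra k B]
        [IsScalarTower k kb B] (inc : B →ₐ[kb] K) (G : Finset (L ⊗[k] B)),
        (∀ s, ∃ g ∈ G, evAt Φ s (inc.restrictScalars k) g ≠ 0) →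
        ∃ ρ : B →ₐ[kb] kb, ∀ s, ∃ g ∈ G, evAt Φ s (((Algebra.ofId kb K).comp ρ).restrictScalars k) g ≠ 0)
    {Uo : Over (Spec (CommRingCat.of k))} [IsAffine Uo.left] (a : (yon _).obj Uo ⟶ bc Y K)
    (ha : RepWith @IsOpenImmersion a)
    (hcov : ∀ t, Points.ofPt (Limits.prod.lift ((yon _).map (extHom Φ) ≫ b) ((yon _).map (extHom (constAlg _ K)))) t ∈
      Set.range (Points.ofPt a)) :
    ∃ (Wo : Over (Spec (CommRingCat.of k))) (a' : (yon _).obj Wo ⟶ bc Y kb), IsAffine Wo.left ∧
      RepWith @IsOpenImmersion a' ∧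
      Points.map Limits.prod.fst ⁻¹' {w} ⊆ Set.range (Points.ofPt a') := by
  classical
  let S := PrimeSpectrum (L ⊗[k] kb)
  let J := {B : Subalgebra kb K // B.FG}
  haveI : Nonempty J := ⟨⟨⊥, Subalgebra.fg_bot⟩⟩
  haveI : IsDirectedOrder J := ⟨fun B C => ⟨⟨B.1 ⊔ C.1, B.2.sup C.2⟩, (le_sup_left : B.1 ≤ B.1 ⊔ C.1), (le_sup_right : C.1 ≤ B.1 ⊔ C.1)⟩⟩
  haveI : IsCofiltered Jᵒᵖ := isCofiltered_op_of_isFiltered _
  let A : J → Subalgebra k K := fun B => B.1.restrictScalars k
  have hA : Monotone A := fun B C h => h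
  have hAU : ∀ x : K, ∃ B, x ∈ A B := fun x =>
    ⟨⟨Algebra.adjoin kb {x}, by simpa using Subalgebra.fg_adjoin_finset (R := kb) ({x} : Finset K)⟩,
      Algebra.subset_adjoin (Set.mem_singleton x)⟩
  obtain ⟨hl⟩ := nonempty_bcIsLimit A hA hAU Y
  obtain ⟨l, Vl, gl, hVl, hgl, hmem⟩ := exists_affine_open_stage (bcDiagram A hA Y) (fun j => isAlgSpace_bc hYa _)
    (fun i' j h => (isAffineMor_iff_repWith _).2 (repWith_bcMap @IsAffineHom _ (Subalgebra.inclusion (hA (leOfHom h.unop))) inferInstance))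
    (fun j => (qcqs_bc hYa hYq hYs _).1) (fun j => (qcqs_bc hYa hYq hYs _).2) (bcCone A hA Y) hl a ha
  let B : Subalgebra kb K := l.unop.1
  haveI : Algebra.FiniteType kb B := B.fg_iff_finiteType.1 l.unop.2
  let Al := A l.unop
  let p : Ext (k := k) (L ⊗[k] Al) ⟶ Ext L := extHom (Algebra.TensorProduct.includeLeft : L →ₐ[k] L ⊗[k] Al)
  let q : Ext (k := k) (L ⊗[k] Al) ⟶ Ext Al := extHom (Algebra.TensorProduct.includeRight : Al →ₐ[k] L ⊗[k] Al)
  let lB : (yon _).obj (Ext (k := k) (L ⊗[k] Al)) ⟶ bc Y Al :=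
    Limits.prod.lift ((yon _).map p ≫ b) ((yon _).map q)
  -- evaluation maps into the product
  have hlift : ∀ (s : S) (r : Al →ₐ[k] K), (yon _).map (extHom (evAt Φ s r)) ≫ lB =
      Limits.prod.lift ((yon _).map (extHom ((LocallyConstant.evalₐ k s).comp Φ)) ≫ b) ((yon _).map (extHom r)) := by
    intro s r
    apply Limits.prod.hom_ext
    · simp only [lB, Category.assoc, Limits.prod.lift_fst]
      rw [← Functor.map_comp_assoc, extHom_comp, Algebra.TensorProduct.productMap_left]
    · simp only [lB, Category.assoc, Limits.prod.lift_snd]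
      rw [← Functor.map_comp, extHom_comp, Algebra.TensorProduct.productMap_right]
  obtain ⟨O, fst, sqO⟩ := SchImg.exists_open_pullback hgl lB
  have hnz : ∀ {R : Type u} [CommRing R] [Algebra k R] (f : R →ₐ[k] K) (x : R),
      (extHom f).left (IsLocalRing.closedPoint K) ∈ PrimeSpectrum.basicOpen x ↔ f x ≠ 0 := by
    intro R _ _ f x
    show ¬ f x ∈ IsLocalRing.maximalIdeal K ↔ _
    rw [IsLocalRing.maximalIdeal_eq_bot, Ideal.mem_bot]
  have hstage : ∀ s : S, ∃ g : L ⊗[k] Al, (∀ P : PrimeSpectrum (L ⊗[k] Al), P ∈ PrimeSpectrum.basicOpen g → P ∈ O) ∧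
      evAt Φ s Al.val g ≠ 0 := by
    intro s
    let fA := Limits.prod.lift ((yon (Spec (CommRingCat.of k))).map (extHom Φ) ≫ b) ((yon _).map (extHom (constAlg S K)))
    have h2 : (yon _).map (extHom (evAt Φ s Al.val)) ≫ lB =
        (yon _).map (extHom (LocallyConstant.evalₐ k s)) ≫ fA ≫ bcMap Y Al.val := by
      rw [hlift]
      apply Limits.prod.hom_ext
      · simp only [fA, bcMap, Category.assoc, Limits.prod.map_fst, Category.comp_id, Limits.prod.lift_fst]
        rw [← Functor.map_comp_assoc, extHom_comp]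
      · simp only [fA, bcMap, Category.assoc, Limits.prod.map_snd, Limits.prod.lift_snd, Limits.prod.lift_snd_assoc]
        rw [← Functor.map_comp, ← Functor.map_comp, extHom_comp, extHom_comp]
        rfl
    have hO : (extHom (evAt Φ s Al.val)).left (IsLocalRing.closedPoint K) ∈ O := (SchImg.mem_open_iff sqO _).2 (by
      obtain ⟨z, hz⟩ := hcov ((extHom (LocallyConstant.evalₐ k s)).left (IsLocalRing.closedPoint K))
      obtain ⟨v, hv⟩ := hmem z
      refine ⟨Points.ofScheme Vl v, ?_⟩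
      rw [← Points.ofPt_eq_map_ofScheme, hv, ← ofPt_comp, h2, ← Category.assoc, ← Points.map_ofPt, ofPt_comp, hz]
      rfl)
    obtain ⟨_, ⟨g, rfl⟩, hgp, hgO⟩ :=
      (PrimeSpectrum.isTopologicalBasis_basic_opens (R := L ⊗[k] Al)).exists_subset_of_mem_open hO O.2
    exact ⟨g, fun P hP => hgO hP, (hnz _ g).1 hgp⟩
  choose g hgO hgs using hstage
  let EA : L ⊗[k] Al →ₐ[k] LocallyConstant S K :=
    Algebra.TensorProduct.productMap Φ ((constAlg S K).comp Al.val)
  have hEA : ∀ x s, EA x s = evAt Φ s Al.val x := fun x s => by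
    have : (LocallyConstant.evalₐ k s).comp EA = evAt Φ s Al.val := Algebra.TensorProduct.ext' fun u v => by
      simp only [EA, AlgHom.comp_apply, Algebra.TensorProduct.productMap_apply_tmul, map_mul]
      rfl
    exact DFunLike.congr_fun this x
  obtain ⟨t, ht⟩ := isCompact_univ.elim_finite_subcover (fun s => {s' | EA (g s) s' ≠ 0})
    (fun s => (EA (g s)).isLocallyConstant {v | v ≠ 0})
    (fun s _ => Set.mem_iUnion.2 ⟨s, show EA (g s) s ≠ 0 by rw [hEA]; exact hgs s⟩)
  obtain ⟨ρ, hρ⟩ := hsp B B.val (t.image g) (fun s => by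
    obtain ⟨i, hi, his⟩ := Set.mem_iUnion₂.1 (ht (Set.mem_univ s))
    exact ⟨g i, Finset.mem_image_of_mem g hi, fun h => his ((hEA _ s).trans h)⟩)
  let ρk : Al →ₐ[k] kb := (ρ.restrictScalars k : B →ₐ[k] kb)
  obtain ⟨V', fst', snd', sq', haff⟩ := exists_repWith (repWith_bcMap @IsAffineHom Y ρk inferInstance) gl
  haveI : IsAffineHom snd'.left := haff
  haveI : IsAffine Vl.left := hVl
  refine ⟨V', fst', isAffine_of_isAffineHom snd'.left, repWith_baseChange sq'.flip hgl, fun z hz => ?_⟩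
  have hcl : Points.map b (Points.ofScheme (Ext L) (IsLocalRing.closedPoint L)) = w := by
    rw [← Points.ofPt_eq_map_ofScheme]; exact hb _
  obtain ⟨u, -, hu⟩ := exists_point_of_isPullback (isPullback_fieldPt b kb) _ z (hcl.trans (hz : _ = w).symm)
  obtain ⟨u, rfl⟩ := (Points.schemeEquiv (Ext (L ⊗[k] kb))).surjective u
  let s : S := u
  let eS := evAt Φ s (IsScalarTower.toAlgHom k kb K)
  have hpt : (extHom eS).left (IsLocalRing.closedPoint K) = u := by
    refine PrimeSpectrum.ext ?_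
    show Ideal.comap eS.toRingHom (IsLocalRing.maximalIdeal K) = s.asIdeal
    rw [IsLocalRing.maximalIdeal_eq_bot]
    exact Ideal.ext fun x => (hker s x).symm
  let l₀ := Limits.prod.lift ((yon _).map (extHom (Algebra.TensorProduct.includeLeft : L →ₐ[k] L ⊗[k] kb)) ≫ b)
    ((yon _).map (extHom (Algebra.TensorProduct.includeRight : kb →ₐ[k] L ⊗[k] kb)))
  let rK : Al →ₐ[k] K := (((Algebra.ofId kb K).comp ρ).restrictScalars k : B →ₐ[k] K)
  have h3 : (yon _).map (extHom (evAt Φ s rK)) ≫ lB = (yon _).map (extHom eS) ≫ l₀ ≫ bcMap Y ρk := by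
    rw [hlift]
    apply Limits.prod.hom_ext
    · simp only [l₀, bcMap, Category.assoc, Limits.prod.map_fst, Category.comp_id, Limits.prod.lift_fst]
      rw [← Functor.map_comp_assoc, extHom_comp, Algebra.TensorProduct.productMap_left]
    · simp only [l₀, bcMap, Category.assoc, Limits.prod.map_snd, Limits.prod.lift_snd, Limits.prod.lift_snd_assoc]
      rw [← Functor.map_comp, ← Functor.map_comp, extHom_comp, extHom_comp]
      congr 2
      refine AlgHom.ext fun x => ?_
      show _ = eS (Algebra.TensorProduct.includeRight (ρk x))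
      rw [Algebra.TensorProduct.includeRight_apply, Algebra.TensorProduct.productMap_apply_tmul, map_one, one_mul]
      rfl
  obtain ⟨gg, hgg, hne⟩ := hρ s
  obtain ⟨i, -, rfl⟩ := Finset.mem_image.1 hgg
  obtain ⟨x', hx'⟩ := (SchImg.mem_open_iff sqO _).1 (hgO i _ ((hnz (evAt Φ s rK) (g i)).2 hne))
  obtain ⟨r, hr, -⟩ := exists_point_of_isPullback sq' z x' (by
    rw [hx', ← ofPt_comp, h3, ← Category.assoc, ← Points.map_ofPt, ofPt_comp, hpt]
    congr 1
    rw [← hu]
    exact (Points.ofPt_eq_map_ofScheme _ _).symm)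
  obtain ⟨r, rfl⟩ := (Points.schemeEquiv V').surjective r
  exact ⟨r, (Points.ofPt_eq_map_ofScheme _ _).trans hr⟩

/-- separated group spaces over a field are schemes -/
theorem exists_iso_yon_group (G : Over ((yon (Spec (CommRingCat.of k))).obj (Over.mk (𝟙 _)))) [GrpObj G]
    (hG : IsAlgSpace G.left) (hsep : IsSeparatedSp G.left) :
    ∃ W : Over (Spec (CommRingCat.of k)), Nonempty (G.left ≅ (yon _).obj W) := by
  classical
  have hs : IsQuasiSeparatedSp G.left := repWith_mono (P := @IsClosedImmersion) (Q := @QuasiCompact)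
    (fun _ _ g hg => by have : IsClosedImmersion g := hg; infer_instance) hsep
  let kb := AlgebraicClosure k
  obtain ⟨T, ⟨e'⟩⟩ := exists_iso_yon_bc_group G hG hsep kb
  let e := e'.symm
  obtain ⟨q, hq⟩ := exists_map_eq (e.hom ≫ Limits.prod.snd)
  obtain ⟨Idx, Gi, jj, hGi, hcov⟩ := exists_qc_cover hG hs
  have hloc : ∀ x : Points G.left, ∃ (V : Over (Spec (CommRingCat.of k))) (g : (yon _).obj V ⟶ G.left),
      RepWith @IsOpenImmersion g ∧ x ∈ Set.range (Points.map g) := fun x => by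
    obtain ⟨i, w, rfl⟩ := hcov x
    obtain ⟨hGa, hGq, hGs, hjo⟩ := hGi i
    obtain ⟨T₀, b₀, t, rfl⟩ := exists_ofPt w
    obtain ⟨φ, hφ⟩ := Spec.map_surjective (T₀.left.fromSpecResidueField t ≫ T₀.hom)
    letI : Algebra k (T₀.left.residueField t) := φ.hom.toAlgebra
    let i₀ : Ext (k := k) (T₀.left.residueField t) ⟶ T₀ := Over.homMk (T₀.left.fromSpecResidueField t) hφ.symm
    let L := AlgebraicClosure (T₀.left.residueField t)
    let b : (yon _).obj (Ext (k := k) L) ⟶ Gi i :=
      (yon _).map (extHom (IsScalarTower.toAlgHom k (T₀.left.residueField t) L) ≫ i₀) ≫ b₀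
    have hb : ∀ z, Points.ofPt b z = Points.ofPt b₀ t := fun z => by
      rw [ofPt_comp, Over.comp_left, Scheme.Hom.comp_apply]
      exact congrArg (Points.ofPt b₀) (Scheme.fromSpecResidueField_apply t _)
    obtain ⟨K, _, _, toK, _, hKN⟩ := exists_big_field k L ((Σ c, Γ(T.left.affineCover.X c, ⊤)) ⊕ ULift.{u} ℕ)
    let ψ : kb →ₐ[k] K := IsAlgClosed.lift
    letI : Algebra kb K := ψ.toRingHom.toAlgebra
    haveI : IsScalarTower k kb K := IsScalarTower.of_algebraMap_eq' ψ.comp_algebraMap.symm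
    obtain ⟨eW, heW⟩ := exists_bc_model ψ e q hq
    let W : Over (Spec (CommRingCat.of K)) :=
      Over.mk (Limits.pullback.fst (Spec.map (CommRingCat.ofHom ψ.toRingHom)) q.left)
    obtain ⟨hW⟩ := nonempty_grpObj_of_iso_bc G W eW heW
    letI := hW
    obtain ⟨hJ, hrat⟩ := jacobson_rational_pullback ψ.toRingHom q.left
      (fun c => small_of_set_le (fun c => (Γ(T.left.affineCover.X c, ⊤) : Type u)) hKN c)
    haveI : JacobsonSpace W.left := hJ
    obtain ⟨Φ, hker, hsp⟩ := exists_family (kb := kb) toK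
    let fA := Limits.prod.lift ((yon (Spec (CommRingCat.of k))).map (extHom Φ) ≫ b)
      ((yon _).map (extHom (constAlg (PrimeSpectrum (L ⊗[k] kb)) K)))
    obtain ⟨Uo, a, hUo, ha, hpts⟩ := exists_affine_big (jj i) hjo W hrat eW heW _ fA (Limits.prod.lift_snd _ _)
    haveI := hUo
    obtain ⟨Wo, a', hWo, ha', hfib⟩ := exists_affine_specialised hGa hGq hGs b _ hb Φ hker hsp a ha hpts
    haveI := hWo
    have sq := isPullback_bc_of_mono (jj i) kb
    refine exists_scheme_nhd_of_fibre hG hs kb (a' ≫ Limits.prod.map (jj i) (𝟙 _))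
      (repWith_comp ha' (repWith_baseChange sq.flip hjo)) _ fun z hz => ?_
    obtain ⟨z', hz1, hz2⟩ := exists_point_of_isPullback sq z _ (hz : _ = _)
    obtain ⟨r, hr⟩ := hfib (show z' ∈ Points.map Limits.prod.fst ⁻¹' {Points.ofPt b₀ t} from hz2)
    exact ⟨r, by rw [← Points.map_ofPt, hr, hz1]⟩
  obtain ⟨U, π, -, hπ⟩ := hG.atlas
  choose V g hg hmem using fun u : ↥U.left => hloc (Points.ofPt π u)
  refine exists_iso_yon_of_open_cover hG V g hg fun y => ?_
  obtain ⟨u, rfl⟩ := ofPt_surjective hπ y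
  exact ⟨u, hmem u⟩

end Groth.Agent.FieldFamily
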